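import Groth.Agent.UnivFinite.Versal
import Mathlib.AlgebraicGeometry.Morphisms.Finite
import Mathlib.AlgebraicGeometry.Morphisms.QuasiFinite
import Mathlib.AlgebraicGeometry.Morphisms.FinitePresentation
import Mathlib.AlgebraicGeometry.Pullbacks

/-!
# A versal finite open piece of an affine quasi-finite morphism
-/

set_option autoImplicit false
set_option backward.isDefEq.respectTransparency false

universe u

open CategoryTheory Limits AlgebraicGeometry
open scoped TensorProduct

namespace Groth.Agent.UnivFinite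

attribute [local instance] Algebra.TensorProduct.rightAlgebra

/-- The affine chart of a pullback of affine schemes. -/
theorem isPullback_chart {X Y Y' : Scheme.{u}} (f : X ⟶ Y) (b : Y' ⟶ Y) {A B A' : Type u} [CommRing A] [CommRing B]
    [CommRing A'] [Algebra A B] [Algebra A A'] (iY : Y ≅ Spec (.of A)) (iX : X ≅ Spec (.of B)) (j : Y' ≅ Spec (.of A'))
    (hf : f ≫ iY.hom = iX.hom ≫ Spec.map (CommRingCat.ofHom (algebraMap A B)))
    (hb : b ≫ iY.hom = j.hom ≫ Spec.map (CommRingCat.ofHom (algebraMap A A'))) :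
    IsPullback (Spec.map (CommRingCat.ofHom (Algebra.TensorProduct.includeRight (R := A) (A := A') (B := B)).toRingHom) ≫ iX.inv)
      (Spec.map (CommRingCat.ofHom (algebraMap A' (A' ⊗[A] B))) ≫ j.inv) f b := by
  have h := (isPullback_SpecMap_of_isPushout _ _ _ _ (CommRingCat.isPushout_iff_isPushout.mpr
      (inferInstance : Algebra.IsPushout A A' B (A' ⊗[A] B)))).flip
  exact IsPullback.of_iso h (Iso.refl _) iX.symm j.symm iY.symm
    (by rw [Iso.refl_hom, Category.id_comp]; rfl)
    (by rw [Iso.refl_hom, Category.id_comp]; rfl)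
    (by rw [← cancel_mono iY.hom]; simp [hf])
    (by rw [← cancel_mono iY.hom]; simp [hb])

theorem exists_universal_finite_open {X Y : Scheme.{u}} (f : X ⟶ Y) [IsAffine X] [IsAffine Y]
    [LocallyQuasiFinite f] [LocallyOfFinitePresentation f] :
    ∃ (Yu : Scheme.{u}) (a : Yu ⟶ Y) (Uu : (pullback f a).Opens), LocallyOfFinitePresentation a ∧ QuasiCompact a ∧
      QuasiSeparated a ∧ IsFinite (Uu.ι ≫ pullback.snd f a) ∧
      ∀ (Y' : Scheme.{u}) (b : Y' ⟶ Y) (U' : (pullback f b).Opens), IsAffine Y' → IsFinite (U'.ι ≫ pullback.snd f b) →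
        ∃ (c : Y' ⟶ Yu) (hc : c ≫ a = b),
          (pullback.map f b f a (𝟙 X) c (𝟙 Y) ((Category.comp_id f).trans (Category.id_comp f).symm)
            ((Category.comp_id b).trans hc.symm)) ⁻¹ᵁ Uu = U' := by
  let A := Γ(Y, ⊤)
  let B := Γ(X, ⊤)
  let : Algebra A B := f.appTop.hom.toAlgebra
  have : Algebra.FinitePresentation A B := HasRingHomProperty.appTop (P := @LocallyOfFinitePresentation) f ‹_›
  have : Algebra.QuasiFinite A B := HasRingHomProperty.appTop (P := @LocallyQuasiFinite) f ‹_›
  have hf : f ≫ Y.isoSpec.hom = X.isoSpec.hom ≫ Spec.map (CommRingCat.ofHom (algebraMap A B)) :=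
    (Scheme.isoSpec_hom_naturality f).symm
  obtain ⟨Au, _, _, e, hfpu, he, hfinu, huniv⟩ := exists_versal_finite A B
  let a : Spec (.of Au) ⟶ Y := Spec.map (CommRingCat.ofHom (algebraMap A Au)) ≫ Y.isoSpec.inv
  have hpu := isPullback_chart f a Y.isoSpec X.isoSpec (Iso.refl (Spec (.of Au))) hf
    (by simp only [a, Category.assoc, Iso.inv_hom_id, Category.comp_id, Iso.refl_hom, Category.id_comp]; rfl)
  let Φ := hpu.isoPullback
  let Uu : (pullback f a).Opens := Φ.inv ⁻¹ᵁ (PrimeSpectrum.basicOpen e)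
  have hlfp : LocallyOfFinitePresentation (Spec.map (CommRingCat.ofHom (algebraMap A Au))) :=
    (LocallyOfFinitePresentation.SpecMap_iff _).2 (RingHom.finitePresentation_algebraMap.2 hfpu)
  refine ⟨Spec (.of Au), a, Uu, inferInstance, inferInstance, inferInstance, ?_, ?_⟩
  · let l := Spec.map (CommRingCat.ofHom (algebraMap (Au ⊗[A] B) (Localization.Away e)))
    have : IsOpenImmersion l := IsOpenImmersion.of_isLocalization e
    have hl : Set.range l = (PrimeSpectrum.basicOpen e : Set (PrimeSpectrum (Au ⊗[A] B))) :=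
      PrimeSpectrum.localization_away_comap_range (Localization.Away e) e
    let i := IsOpenImmersion.isoOfRangeEq Uu.ι (l ≫ Φ.hom) (by
      rw [Scheme.Opens.range_ι, Scheme.Hom.comp_base, TopCat.coe_comp, Set.range_comp, hl]
      ext x
      simp only [Uu, SetLike.mem_coe, Scheme.Hom.mem_preimage, Set.mem_image]
      exact ⟨fun h => ⟨_, h, by rw [← Scheme.Hom.comp_apply, Iso.inv_hom_id]; rfl⟩,
        fun ⟨y, hy, hyx⟩ => by rw [← hyx, ← Scheme.Hom.comp_apply, Iso.hom_inv_id]; exact hy⟩)
    rw [← MorphismProperty.cancel_left_of_respectsIso @IsFinite i.inv]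
    have : i.inv ≫ Uu.ι ≫ pullback.snd f a =
        Spec.map (CommRingCat.ofHom (algebraMap Au (Localization.Away e))) := by
      rw [IsOpenImmersion.isoOfRangeEq_inv_fac_assoc, Category.assoc, IsPullback.isoPullback_hom_snd]
      simp only [Iso.refl_inv, Category.comp_id, l, ← Spec.map_comp]
      congr 1
    rw [this, IsFinite.SpecMap_iff]
    exact RingHom.finite_algebraMap.2 hfinu
  · intro Y' b U' hY' hU'
    let A' := Γ(Y', ⊤)
    let : Algebra A A' := b.appTop.hom.toAlgebra
    have hb : b ≫ Y.isoSpec.hom = Y'.isoSpec.hom ≫ Spec.map (CommRingCat.ofHom (algebraMap A A')) :=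
      (Scheme.isoSpec_hom_naturality b).symm
    have hp := isPullback_chart f b Y.isoSpec X.isoSpec Y'.isoSpec hf hb
    let Ψ := hp.isoPullback
    let W : (Spec (.of (A' ⊗[A] B))).Opens := Ψ.hom ⁻¹ᵁ U'
    let q := Spec.map (CommRingCat.ofHom (algebraMap A' (A' ⊗[A] B)))
    have hWfin : IsFinite (W.ι ≫ q) := by
      have h1 : (Ψ.hom ∣_ U') ≫ U'.ι ≫ pullback.snd f b = (W.ι ≫ q) ≫ Y'.isoSpec.inv := by
        rw [morphismRestrict_ι_assoc, IsPullback.isoPullback_hom_snd, Category.assoc]
      rw [← MorphismProperty.cancel_right_of_respectsIso @IsFinite _ Y'.isoSpec.inv, ← h1,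
        MorphismProperty.cancel_left_of_respectsIso @IsFinite]
      exact hU'
    have : IsFinite W.ι := MorphismProperty.of_postcomp @IsFinite W.ι q (inferInstance : IsSeparated q) hWfin
    have hclosed : IsClosed (W.1 : Set (PrimeSpectrum (A' ⊗[A] B))) := by
      have := W.ι.isClosedMap.isClosed_range
      rwa [Scheme.Opens.range_ι] at this
    obtain ⟨e', he', hWe⟩ := PrimeSpectrum.isClopen_iff.1 ⟨hclosed, W.2⟩
    let l := Spec.map (CommRingCat.ofHom (algebraMap (A' ⊗[A] B) (Localization.Away e')))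
    have : IsOpenImmersion l := IsOpenImmersion.of_isLocalization e'
    have hl : Set.range l = (PrimeSpectrum.basicOpen e' : Set (PrimeSpectrum (A' ⊗[A] B))) :=
      PrimeSpectrum.localization_away_comap_range (Localization.Away e') e'
    let i := IsOpenImmersion.isoOfRangeEq W.ι l (by rw [Scheme.Opens.range_ι, hl]; exact hWe)
    have hfin' : Module.Finite A' (Localization.Away e') := by
      rw [← RingHom.finite_algebraMap]
      refine (IsFinite.SpecMap_iff (f := CommRingCat.ofHom (algebraMap A' (Localization.Away e')))).1 ?_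
      have : i.inv ≫ W.ι ≫ q = Spec.map (CommRingCat.ofHom (algebraMap A' (Localization.Away e'))) := by
        rw [IsOpenImmersion.isoOfRangeEq_inv_fac_assoc]
        simp only [l, q, ← Spec.map_comp]
        congr 1
      rw [← this, MorphismProperty.cancel_left_of_respectsIso @IsFinite]
      exact hWfin
    obtain ⟨g, hg⟩ := huniv A' e' he' hfin'
    let c : Y' ⟶ Spec (.of Au) := Y'.isoSpec.hom ≫ Spec.map (CommRingCat.ofHom g.toRingHom)
    have hc : c ≫ a = b := by
      have : CommRingCat.ofHom (algebraMap A Au) ≫ CommRingCat.ofHom g.toRingHom =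
          CommRingCat.ofHom (algebraMap A A') := by ext r; exact g.commutes r
      rw [← cancel_mono Y.isoSpec.hom, hb, ← this, Spec.map_comp]
      simp [c, a]
    refine ⟨c, hc, ?_⟩
    let m := Algebra.TensorProduct.map g (AlgHom.id A B)
    have hsq : Ψ.hom ≫ pullback.map f b f a (𝟙 X) c (𝟙 Y) ((Category.comp_id f).trans (Category.id_comp f).symm)
        ((Category.comp_id b).trans hc.symm) = Spec.map (CommRingCat.ofHom m.toRingHom) ≫ Φ.hom := by
      refine pullback.hom_ext ?_ ?_
      · refine (Category.assoc _ _ _).trans ((congrArg (Ψ.hom ≫ ·) ((pullback.lift_fst _ _ _).trans (Category.comp_id _))).trans ?_)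
        rw [IsPullback.isoPullback_hom_fst]
        refine Eq.trans ?_ (Category.assoc _ _ _).symm
        rw [IsPullback.isoPullback_hom_fst, ← Spec.map_comp_assoc]
        congr 2
        ext x
        change (1 : A') ⊗ₜ[A] x = m ((1 : Au) ⊗ₜ[A] x)
        simp [m]
      · refine (Category.assoc _ _ _).trans ((congrArg (Ψ.hom ≫ ·) (pullback.lift_snd _ _ _)).trans ?_)
        refine Eq.trans ?_ (Category.assoc _ _ _).symm
        rw [IsPullback.isoPullback_hom_snd, IsPullback.isoPullback_hom_snd_assoc]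
        simp only [c, Iso.refl_inv, Category.comp_id, Category.assoc, Iso.inv_hom_id_assoc, ← Spec.map_comp]
        congr 1
    refine TopologicalSpace.Opens.ext (Set.ext fun z => ?_)
    obtain ⟨w, rfl⟩ : ∃ w, Ψ.hom w = z := ⟨Ψ.inv z, by rw [← Scheme.Hom.comp_apply, Iso.inv_hom_id]; rfl⟩
    change (Ψ.hom ≫ pullback.map f b f a (𝟙 X) c (𝟙 Y) _ _) w ∈ Uu ↔ Ψ.hom w ∈ U'
    rw [hsq]
    have hUu : (Spec.map (CommRingCat.ofHom m.toRingHom) ≫ Φ.hom) w ∈ Uu ↔ m e ∉ w.asIdeal := by
      rw [Scheme.Hom.comp_apply]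
      simp only [Uu, Scheme.Hom.mem_preimage, ← Scheme.Hom.comp_apply, Category.assoc, Iso.hom_inv_id, Category.comp_id]
      exact Iff.rfl
    rw [hUu, show m e = e' from hg]
    exact (Set.ext_iff.1 hWe w).symm

end Groth.Agent.UnivFinite
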