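import Mathlib.RingTheory.ZariskisMainTheorem
import Mathlib.RingTheory.Finiteness.ModuleFinitePresentation
import Mathlib.RingTheory.Spectrum.Prime.Topology
import Mathlib.RingTheory.TensorProduct.Basic
import Mathlib.RingTheory.TensorProduct.Finite
import Mathlib.LinearAlgebra.TensorProduct.Pi
import Mathlib.LinearAlgebra.TensorProduct.RightExactness
import Mathlib.RingTheory.Localization.Away.AdjoinRoot

/-!
# Finite open pieces of quasi-finite algebras

Open pieces of base changes of a quasi-finite algebra `B` which are finite over the base are given by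
idempotents of a finite, finitely presented algebra `P → B`, hence admit a versal family.
-/

set_option autoImplicit false
set_option backward.isDefEq.respectTransparency false

universe u

open scoped TensorProduct

namespace Groth.Agent.UnivFinite

section Core

variable {A P B : Type u} [CommRing A] [CommRing P] [CommRing B] [Algebra A P] [Algebra A B]

/-- `B` is covered by basic opens on which it is the localization of `P`. -/
structure IsModel (φ : P →ₐ[A] B) {k : ℕ} (r : Fin k → P) : Prop where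
  span : Ideal.span (Set.range fun i => φ (r i)) = ⊤
  surj : ∀ i b, ∃ (m : ℕ) (a : P), φ a = φ (r i) ^ m * b
  inj : ∀ i a, φ a = 0 → ∃ m : ℕ, r i ^ m * a = 0

variable {φ : P →ₐ[A] B} {k : ℕ} {r : Fin k → P}

theorem IsModel.exists_notMem {E : Type u} [CommRing E] (h : IsModel φ r) (ψ : B →+* E) (Q : Ideal E) [Q.IsPrime] :
    ∃ i, ψ (φ (r i)) ∉ Q := by
  by_contra! hc
  have hle : Ideal.span (Set.range fun i => φ (r i)) ≤ Q.comap ψ :=
    Ideal.span_le.2 (by rintro _ ⟨i, rfl⟩; exact hc i)
  rw [h.span] at hle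
  exact ‹Q.IsPrime›.ne_top ((Ideal.eq_top_iff_one _).2 (by simpa using hle (Submodule.mem_top : (1 : B) ∈ ⊤)))

/-- An idempotent of the finite model supported in the opens gives a finite open piece. -/
theorem IsModel.finite_away [Module.Finite A P] (h : IsModel φ r) {ε : P} (hε : IsIdempotentElem ε)
    (hr : ε ∈ Ideal.span (Set.range r)) :
    Module.Finite A (Localization.Away (φ ε)) := by
  let q : P →ₐ[A] Localization.Away (φ ε) := (IsScalarTower.toAlgHom A B _).comp φ
  refine Module.Finite.of_surjective q.toLinearMap fun z => ?_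
  obtain ⟨b, rfl⟩ := (IsLocalization.Away.algebraMap_surjective_of_isIdempotentElem (S := Localization.Away (φ ε))
    (φ ε) (hε.map φ)) z
  let Q : Ideal P :=
    { carrier := {s | ∃ a, φ a = φ s * b}
      zero_mem' := ⟨0, by simp⟩
      add_mem' := fun {s t} ⟨a, ha⟩ ⟨a', ha'⟩ => ⟨a + a', by rw [map_add, map_add, ha, ha', add_mul]⟩
      smul_mem' := fun c s ⟨a, ha⟩ => ⟨c * a, by rw [smul_eq_mul, map_mul, map_mul, ha, mul_assoc]⟩ }
  have hεQ : ε ∈ Q.radical := by
    refine (Ideal.span_le.2 ?_ : Ideal.span (Set.range r) ≤ Q.radical) hr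
    rintro _ ⟨i, rfl⟩
    obtain ⟨m, a, ha⟩ := h.surj i b
    exact ⟨m, a, by rw [map_pow]; exact ha⟩
  obtain ⟨N, a, ha⟩ := hεQ
  refine ⟨a, ?_⟩
  change algebraMap B _ (φ a) = algebraMap B _ b
  have hone : algebraMap B (Localization.Away (φ ε)) (φ (ε ^ N)) = 1 := by
    have hu : IsUnit (algebraMap B (Localization.Away (φ ε)) (φ ε)) := IsLocalization.Away.algebraMap_isUnit _
    have h1 : algebraMap B (Localization.Away (φ ε)) (φ ε) = 1 :=
      hu.mul_left_cancel (by rw [← map_mul, (hε.map φ).eq, mul_one])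
    rw [map_pow, map_pow, h1, one_pow]
  rw [ha, map_mul, hone, one_mul]

/-- A finite open piece comes from an idempotent of the finite model. -/
theorem IsModel.exists_idempotent [Module.Finite A P] [Algebra.FinitePresentation A B] (h : IsModel φ r) {e : B}
    (he : IsIdempotentElem e) (hfin : Module.Finite A (Localization.Away e)) :
    ∃ ε : P, IsIdempotentElem ε ∧ ε ∈ Ideal.span (Set.range r) ∧ φ ε = e := by
  classical
  let E := Localization.Away e
  let ψ := algebraMap B E
  have hψ : Function.Surjective ψ := IsLocalization.Away.algebraMap_surjective_of_isIdempotentElem e he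
  have hψ0 : ∀ b, ψ b = 0 ↔ e * b = 0 := fun b => by
    rw [IsLocalization.map_eq_zero_iff (Submonoid.powers e) E]
    refine ⟨fun ⟨⟨_, n, rfl⟩, hn⟩ => ?_, fun hb => ⟨⟨e, 1, pow_one e⟩, hb⟩⟩
    rcases n with - | n
    · simp only [pow_zero, one_mul] at hn; rw [hn, mul_zero]
    · simpa [he.pow_succ_eq] using hn
  let q : P →ₐ[A] E := (IsScalarTower.toAlgHom A B E).comp φ
  let : Algebra P E := q.toRingHom.toAlgebra
  have : IsScalarTower A P E := IsScalarTower.of_algebraMap_eq fun a => (q.commutes a).symm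
  have : Module.Finite P E := Module.Finite.of_restrictScalars_finite A P E
  let K : Ideal P := RingHom.ker (algebraMap P E)
  have hcover : ∀ p : Ideal P, p.IsPrime → K ≤ p → ∃ i, r i ∉ p := by
    intro p _ hKp
    obtain ⟨Q, -, hQ, hcomap⟩ := Ideal.exists_ideal_over_prime_of_isIntegral p (⊥ : Ideal E)
      (fun x hx => hKp hx)
    obtain ⟨i, hi⟩ := h.exists_notMem ψ Q
    exact ⟨i, fun hp => hi (hcomap.symm ▸ hp : r i ∈ Q.comap (algebraMap P E))⟩
  have hq : Function.Surjective q := fun z => by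
    let Q : Ideal P :=
      { carrier := {s | ∃ a, q a = q s * z}
        zero_mem' := ⟨0, by simp⟩
        add_mem' := fun {s t} ⟨a, ha⟩ ⟨a', ha'⟩ => ⟨a + a', by rw [map_add, map_add, ha, ha', add_mul]⟩
        smul_mem' := fun c s ⟨a, ha⟩ => ⟨c * a, by rw [smul_eq_mul, map_mul, map_mul, ha, mul_assoc]⟩ }
    suffices (1 : P) ∈ Q by
      obtain ⟨a, ha⟩ := this
      exact ⟨a, by rw [ha, map_one, one_mul]⟩
    by_contra h1
    obtain ⟨p, hp, hQp⟩ := Q.exists_le_maximal ((Ideal.ne_top_iff_one Q).2 h1)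
    obtain ⟨i, hi⟩ := hcover p hp.isPrime fun x hx => hQp ⟨0, by
      rw [show q x = 0 from hx, zero_mul, map_zero]⟩
    obtain ⟨b, rfl⟩ := hψ z
    obtain ⟨m, a, ha⟩ := h.surj i b
    refine hi (hp.isPrime.mem_of_pow_mem m (hQp ⟨a, ?_⟩))
    change ψ (φ a) = ψ (φ (r i ^ m)) * ψ b
    rw [ha, map_mul, map_pow φ]
  -- the kernel is finitely generated
  have : Algebra.FinitePresentation B E := IsLocalization.Away.finitePresentation e
  have : Algebra.FinitePresentation A E := Algebra.FinitePresentation.trans A B E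
  have : Module.FinitePresentation A E := Module.FinitePresentation.of_finite_of_finitePresentation A E
  have hKfg : K.FG := by
    obtain ⟨t, ht⟩ := Module.FinitePresentation.fg_ker q.toLinearMap hq
    refine ⟨t, le_antisymm (Ideal.span_le.2 fun x hx => ?_) fun x hx => ?_⟩
    · have : x ∈ LinearMap.ker q.toLinearMap := ht ▸ Submodule.subset_span hx
      exact this
    · have : x ∈ Submodule.span A (t : Set P) := ht.symm ▸ hx
      exact Submodule.span_le_restrictScalars A P _ this
  obtain ⟨T, hT⟩ := hKfg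
  have hlift : ∀ i, ∃ (m : ℕ) (σ : P), φ σ = φ (r i) ^ m * e ∧ r i ^ m - σ ∈ K := fun i => by
    obtain ⟨m, σ, hσ⟩ := h.surj i e
    refine ⟨m, σ, hσ, ?_⟩
    change ψ (φ (r i ^ m - σ)) = 0
    rw [hψ0, map_sub, map_pow, hσ, mul_sub, mul_left_comm, he.eq, mul_comm e, sub_self]
  -- `K` is locally zero along `V(K)`
  let ann : Ideal P := Submodule.annihilator K
  have hann : ∀ x, x ∈ ann ↔ ∀ y ∈ K, x * y = 0 := fun x => Submodule.mem_annihilator
  have htop : K ⊔ ann = ⊤ := by
    by_contra hne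
    obtain ⟨p, hp, hle⟩ := (K ⊔ ann).exists_le_maximal hne
    have hKp : K ≤ p := le_sup_left.trans hle
    obtain ⟨i, hi⟩ := hcover p hp.isPrime hKp
    obtain ⟨m, σ, hσ, hσK⟩ := hlift i
    have hσp : σ ∉ p := fun hs => hi (hp.isPrime.mem_of_pow_mem m
      (by simpa using p.add_mem (hKp hσK) hs))
    have hkill : ∀ y ∈ K, ∃ l : ℕ, r i ^ l * (σ * y) = 0 := fun y hy => h.inj i _ (by
      rw [map_mul, hσ, mul_assoc, show e * φ y = 0 from (hψ0 _).1 hy, mul_zero])
    choose! l hl using hkill
    let L := T.sup l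
    have hmem : r i ^ L * σ ∈ ann := by
      rw [hann]
      intro y hy
      rw [← hT] at hy
      induction hy using Submodule.span_induction with
      | mem y hy =>
        obtain ⟨d, hd⟩ := Nat.exists_eq_add_of_le (Finset.le_sup (f := l) hy)
        rw [mul_assoc, show L = l y + d from hd, pow_add, mul_comm (r i ^ l y), mul_assoc,
          hl y (hT ▸ Ideal.subset_span hy), mul_zero]
      | zero => rw [mul_zero]
      | add a b _ _ ha hb => rw [mul_add, ha, hb, add_zero]
      | smul c a _ ha => rw [smul_eq_mul, mul_left_comm, ha, mul_zero]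
    exact (hp.isPrime.mem_or_mem (hle (Ideal.mem_sup_right hmem))).elim
      (fun h => hi (hp.isPrime.mem_of_pow_mem _ h)) hσp
  obtain ⟨a, ha, ε, hε, haε⟩ := Submodule.mem_sup.1 (htop.symm ▸ (Submodule.mem_top : (1 : P) ∈ ⊤))
  have haεz : ε * a = 0 := (hann ε).1 hε a ha
  have hidem : IsIdempotentElem ε := by
    have := congrArg (ε * ·) haε
    simp only [mul_add, haεz, zero_add, mul_one] at this
    exact this
  have hεrad : ε ∈ (Ideal.span (Set.range r)).radical := by
    rw [Ideal.radical_eq_sInf, Ideal.mem_sInf]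
    intro p ⟨hrp, hp⟩
    by_contra hεp
    obtain ⟨i, hi⟩ := hcover p hp fun y hy =>
      (hp.mem_or_mem (((hann ε).1 hε y hy).symm ▸ p.zero_mem)).resolve_left hεp
    exact hi (hrp (Ideal.subset_span ⟨i, rfl⟩))
  obtain ⟨N, hN⟩ := hεrad
  refine ⟨ε, hidem, ?_, ?_⟩
  · have := Ideal.mul_mem_left _ ε hN
    rwa [← pow_succ', hidem.pow_succ_eq] at this
  have h1 : e * φ ε = e := by
    have h1 : ψ (φ ε - 1) = 0 := by
      have h2 : ψ (φ a) = 0 := ha
      rw [map_sub, map_one, ← map_one ψ, ← map_one φ, ← haε, map_add, map_add, h2, zero_add, sub_self]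
    rw [hψ0, mul_sub, mul_one, sub_eq_zero] at h1
    exact h1
  have h2 : φ ε * (1 - e) = 0 := by
    let J : Ideal B := (Submodule.span B {φ ε * (1 - e)}).annihilator
    have hle : Ideal.span (Set.range fun i => φ (r i)) ≤ J.radical := by
      refine Ideal.span_le.2 ?_
      rintro _ ⟨i, rfl⟩
      obtain ⟨m, σ, hσ, hσK⟩ := hlift i
      refine ⟨m, Submodule.mem_annihilator_span_singleton _ _ |>.2 ?_⟩
      have := congrArg φ ((hann ε).1 hε _ hσK)
      rw [map_mul, map_sub, map_pow, hσ, map_zero] at this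
      rw [smul_eq_mul, ← this]
      ring
    rw [h.span, top_le_iff, Ideal.radical_eq_top] at hle
    have := (Submodule.mem_annihilator_span_singleton (φ ε * (1 - e)) 1).1 ((Ideal.eq_top_iff_one J).1 hle)
    simpa using this
  rw [← h1]
  linear_combination h2

end Core

section BaseChange

variable {A P B : Type u} [CommRing A] [CommRing P] [CommRing B] [Algebra A P] [Algebra A B]
  {φ : P →ₐ[A] B} {k : ℕ} {r : Fin k → P}

theorem IsModel.baseChange (h : IsModel φ r) (A' : Type u) [CommRing A'] [Algebra A A'] :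
    IsModel (Algebra.TensorProduct.map (AlgHom.id A' A') φ) (fun i => (1 : A') ⊗ₜ[A] r i) := by
  let φ' := Algebra.TensorProduct.map (AlgHom.id A' A') φ
  refine ⟨?_, fun i b => ?_, fun i z hz => ?_⟩
  · have := congrArg (Ideal.map (Algebra.TensorProduct.includeRight (R := A) (A := A') (B := B))) h.span
    rw [Ideal.map_span, Ideal.map_top, ← Set.range_comp] at this
    exact this
  · induction b with
    | zero => exact ⟨0, 0, by simp⟩
    | tmul a b =>
      obtain ⟨m, c, hc⟩ := h.surj i b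
      exact ⟨m, a ⊗ₜ c, by simp [hc, Algebra.TensorProduct.tmul_pow]⟩
    | add x y hx hy =>
      obtain ⟨m, c, hc⟩ := hx
      obtain ⟨m', c', hc'⟩ := hy
      refine ⟨m + m', ((1 : A') ⊗ₜ[A] r i) ^ m' * c + ((1 : A') ⊗ₜ[A] r i) ^ m * c', ?_⟩
      rw [map_add, map_mul, map_mul, map_pow, map_pow, hc, hc', pow_add]
      ring
  · let Pr := Localization.Away (r i)
    let L := Localization.Away ((1 : A') ⊗ₜ[A] r i)
    let j : Pr →ₐ[A] L := IsLocalization.Away.liftAlgHom (r i)
      (f := (IsScalarTower.toAlgHom A (A' ⊗[A] P) L).comp Algebra.TensorProduct.includeRight)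
      (IsLocalization.Away.algebraMap_isUnit ((1 : A') ⊗ₜ[A] r i))
    let θ : Pr →ₐ[A] Localization.Away (φ (r i)) := IsLocalization.Away.liftAlgHom (r i)
      (f := (IsScalarTower.toAlgHom A B (Localization.Away (φ (r i)))).comp φ)
      (IsLocalization.Away.algebraMap_isUnit (φ (r i)))
    have hθa : ∀ a, θ (algebraMap P Pr a) = algebraMap B (Localization.Away (φ (r i))) (φ a) := fun a => by
      simp [θ]
    have hθ : Function.Bijective θ := by
      refine ⟨(injective_iff_map_eq_zero _).2 fun x hx => ?_, fun y => ?_⟩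
      · obtain ⟨⟨a, s⟩, rfl⟩ := IsLocalization.mk'_surjective (Submonoid.powers (r i)) x
        have h1 : θ (algebraMap P Pr a) = 0 := by
          rw [← IsLocalization.mk'_spec Pr a s, map_mul, hx, zero_mul]
        rw [hθa] at h1
        obtain ⟨⟨_, n, rfl⟩, hn⟩ := (IsLocalization.map_eq_zero_iff (Submonoid.powers (φ (r i)))
          (Localization.Away (φ (r i))) _).1 h1
        obtain ⟨m, hm⟩ := h.inj i (r i ^ n * a) (by rw [map_mul, map_pow]; exact hn)
        simp only [Function.uncurry_apply_pair]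
        rw [IsLocalization.mk'_eq_zero_iff]
        exact ⟨⟨r i ^ (m + n), m + n, rfl⟩, by simpa [pow_add, mul_assoc] using hm⟩
      · obtain ⟨⟨b, ⟨_, n, rfl⟩⟩, rfl⟩ := IsLocalization.mk'_surjective (Submonoid.powers (φ (r i))) y
        obtain ⟨m, a, ha⟩ := h.surj i b
        refine ⟨IsLocalization.mk' Pr a (⟨r i ^ (m + n), m + n, rfl⟩ : Submonoid.powers (r i)), ?_⟩
        simp only [Function.uncurry_apply_pair]
        rw [IsLocalization.eq_mk'_iff_mul_eq]
        refine ((IsLocalization.Away.algebraMap_isUnit (S := Localization.Away (φ (r i))) (φ (r i))).pow m).mul_left_cancel ?_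
        have hs := IsLocalization.mk'_spec Pr a (⟨r i ^ (m + n), m + n, rfl⟩ : Submonoid.powers (r i))
        have := congrArg θ hs
        simp only [map_mul, hθa, map_pow, ha, pow_add] at this ⊢
        rw [← this]
        ring
    let θe := AlgEquiv.ofBijective θ hθ
    let ψ : A' ⊗[A] B →ₐ[A'] L := Algebra.TensorProduct.lift (Algebra.ofId A' L)
      ((j.comp θe.symm.toAlgHom).comp (IsScalarTower.toAlgHom A B (Localization.Away (φ (r i)))))
      fun _ _ => Commute.all _ _
    have hψ : ψ.comp φ' = IsScalarTower.toAlgHom A' (A' ⊗[A] P) L := by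
      refine Algebra.TensorProduct.ext (by ext) (AlgHom.ext fun p => ?_)
      change ψ ((1 : A') ⊗ₜ[A] φ p) = algebraMap (A' ⊗[A] P) L ((1 : A') ⊗ₜ[A] p)
      simp only [ψ, Algebra.TensorProduct.lift_tmul, map_one, one_mul, AlgHom.comp_apply,
        IsScalarTower.coe_toAlgHom']
      have : θe.symm (algebraMap B _ (φ p)) = algebraMap P Pr p := by
        rw [AlgEquiv.symm_apply_eq]
        simp [θe, θ]
      change j (θe.symm _) = _
      rw [this]
      simp [j]
    have h0 : algebraMap (A' ⊗[A] P) L z = 0 := by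
      rw [← IsScalarTower.coe_toAlgHom' A', ← hψ, AlgHom.comp_apply, hz, map_zero]
    obtain ⟨⟨_, n, rfl⟩, hn⟩ := (IsLocalization.map_eq_zero_iff
      (Submonoid.powers ((1 : A') ⊗ₜ[A] r i)) L _).1 h0
    exact ⟨n, hn⟩

end BaseChange

section Exists

variable (A B : Type u) [CommRing A] [CommRing B] [Algebra A B] [Algebra.FinitePresentation A B]
  [Algebra.QuasiFinite A B]

theorem exists_model : ∃ (P : Type u) (_ : CommRing P) (_ : Algebra A P) (φ : P →ₐ[A] B) (k : ℕ) (r : Fin k → P),
    Module.Finite A P ∧ Module.FinitePresentation A P ∧ IsModel φ r := by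
  classical
  choose S' hS' r' hr' hbij using fun q : PrimeSpectrum B =>
    Algebra.QuasiFiniteAt.exists_fg_and_exists_notMem_and_awayMap_bijective (R := A) q.asIdeal
  have htop : Ideal.span (Set.range fun q => (r' q).1) = ⊤ := by
    by_contra h
    obtain ⟨m, hm, hle⟩ := Ideal.exists_le_maximal _ h
    exact hr' ⟨m, hm.isPrime⟩ (hle (Ideal.subset_span ⟨⟨m, hm.isPrime⟩, rfl⟩))
  obtain ⟨s, hs, hspan⟩ := Submodule.mem_span_finite_of_mem_span (htop.symm ▸ (Submodule.mem_top : (1 : B) ∈ ⊤))
  choose qf hqf using fun x : s => hs x.2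
  let e := s.equivFin.symm
  have hsurj₀ : ∀ (x : s) (b : B), ∃ (m : ℕ) (a : S' (qf x)), a.1 = x.1 ^ m * b := fun x b => by
    obtain ⟨a, m, ha⟩ := Localization.awayMap_surjective_iff.1 (hbij (qf x)).2 b
    exact ⟨m, a, by rw [← hqf x]; exact ha⟩
  choose gS hgS using fun x : s => hS' (qf x)
  -- a finite free-type model of the integral elements
  let G : Finset B := s ∪ Finset.univ.biUnion gS
  have hint : ∀ g ∈ G, IsIntegral A g := by
    intro g hg
    rcases Finset.mem_union.1 hg with h | h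
    · exact IsIntegral.of_mem_of_fg _ (hS' (qf ⟨g, h⟩)) g (by
        have h' : (r' (qf ⟨g, h⟩)).1 = g := hqf ⟨g, h⟩
        have := (r' (qf ⟨g, h⟩)).2
        rwa [h'] at this)
    · obtain ⟨x, -, hx⟩ := Finset.mem_biUnion.1 h
      exact IsIntegral.of_mem_of_fg _ (hS' (qf x)) g
        (show g ∈ (S' (qf x)).toSubmodule from hgS x ▸ Submodule.subset_span hx)
  choose p hp hp0 using fun g : G => hint g.1 g.2
  let M := MvPolynomial G A
  let I : Ideal M := Ideal.span (Finset.univ.image fun g : G => Polynomial.aeval (MvPolynomial.X g : M) (p g) : Finset M)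
  let P₀ := M ⧸ I
  have : Algebra.FinitePresentation A P₀ := Algebra.FinitePresentation.quotient ⟨_, rfl⟩
  have : Algebra.IsIntegral A P₀ := ⟨fun z => by
    obtain ⟨z, rfl⟩ := Ideal.Quotient.mkₐ_surjective A I z
    have hz : z ∈ Algebra.adjoin A (Set.range (MvPolynomial.X : G → M)) := by
      rw [MvPolynomial.adjoin_range_X]; trivial
    induction hz using Algebra.adjoin_induction with
    | mem y hy =>
      obtain ⟨g, rfl⟩ := hy
      refine ⟨p g, hp g, ?_⟩
      rw [← Polynomial.aeval_def, Polynomial.aeval_algHom_apply, Ideal.Quotient.mkₐ_eq_mk,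
        Ideal.Quotient.eq_zero_iff_mem]
      exact Ideal.subset_span (Finset.mem_image_of_mem _ (Finset.mem_univ g))
    | algebraMap a => rw [AlgHom.commutes]; exact isIntegral_algebraMap
    | add a b _ _ ha hb => rw [map_add]; exact ha.add hb
    | mul a b _ _ ha hb => rw [map_mul]; exact ha.mul hb⟩
  have : Module.Finite A P₀ := Algebra.IsIntegral.finite
  let ev : M →ₐ[A] B := MvPolynomial.aeval fun g : G => g.1
  let φ₀ : P₀ →ₐ[A] B := Ideal.Quotient.liftₐ I ev fun z hz => by
    suffices I ≤ RingHom.ker ev from this hz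
    refine Ideal.span_le.2 ?_
    rw [Finset.coe_image]
    rintro _ ⟨g, -, rfl⟩
    rw [SetLike.mem_coe, RingHom.mem_ker, ← Polynomial.aeval_algHom_apply]
    rw [show ev (MvPolynomial.X g) = g.1 from MvPolynomial.aeval_X _ g, Polynomial.aeval_def]
    exact hp0 g
  have hrange : ∀ g ∈ G, g ∈ φ₀.range := fun g hg =>
    ⟨Ideal.Quotient.mk I (MvPolynomial.X ⟨g, hg⟩), by
      change ev (MvPolynomial.X ⟨g, hg⟩) = g
      exact MvPolynomial.aeval_X (fun g : G => g.1) ⟨g, hg⟩⟩
  have hS'le : ∀ x : s, ∀ a ∈ S' (qf x), a ∈ φ₀.range := by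
    intro x a ha
    have ha' : a ∈ Submodule.span A (gS x : Set B) := (hgS x).symm ▸ ha
    exact (Submodule.span_le.2 fun g hg => hrange g (Finset.mem_union_right _
      (Finset.mem_biUnion.2 ⟨x, Finset.mem_univ _, hg⟩)) : _ ≤ φ₀.range.toSubmodule) ha'
  choose r₀ hr₀ using fun i => hrange (e i).1 (Finset.mem_union_left _ (e i).2)
  replace hr₀ : ∀ i, φ₀ (r₀ i) = (e i).1 := hr₀
  -- kill the kernel on the basic opens
  have hker : ∀ i, ∃ T : Finset P₀, (∀ t ∈ T, φ₀ t = 0) ∧
      ∀ a, φ₀ a = 0 → ∃ m : ℕ, r₀ i ^ m * a ∈ Ideal.span (T : Set P₀) := by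
    intro i
    let L := Localization.Away (r₀ i)
    let L' := Localization.Away (φ₀ (r₀ i))
    let Φ : L →ₐ[A] L' := IsLocalization.Away.liftAlgHom (r₀ i)
      (f := (IsScalarTower.toAlgHom A B L').comp φ₀) (IsLocalization.Away.algebraMap_isUnit (φ₀ (r₀ i)))
    have hΦa : ∀ a, Φ (algebraMap P₀ L a) = algebraMap B L' (φ₀ a) := fun a => by simp [Φ]
    have hΦ : Function.Surjective Φ := fun y => by
      obtain ⟨⟨b, ⟨_, n, rfl⟩⟩, rfl⟩ := IsLocalization.mk'_surjective (Submonoid.powers (φ₀ (r₀ i))) y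
      obtain ⟨m, a, ha⟩ := hsurj₀ (e i) b
      obtain ⟨c, hc⟩ := hS'le _ a.1 a.2
      replace hc : φ₀ c = a.1 := hc
      refine ⟨IsLocalization.mk' L c (⟨r₀ i ^ (m + n), m + n, rfl⟩ : Submonoid.powers (r₀ i)), ?_⟩
      simp only [Function.uncurry_apply_pair]
      rw [IsLocalization.eq_mk'_iff_mul_eq]
      refine ((IsLocalization.Away.algebraMap_isUnit (S := L') (φ₀ (r₀ i))).pow m).mul_left_cancel ?_
      have := congrArg Φ (IsLocalization.mk'_spec L c (⟨r₀ i ^ (m + n), m + n, rfl⟩ : Submonoid.powers (r₀ i)))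
      simp only [map_mul, hΦa, map_pow, hc, ha, hr₀, pow_add] at this ⊢
      rw [← this]
      ring
    have : Algebra.FinitePresentation P₀ L := IsLocalization.Away.finitePresentation (r₀ i)
    have : Algebra.FinitePresentation A L := Algebra.FinitePresentation.trans A P₀ L
    have : Algebra.FinitePresentation B L' := IsLocalization.Away.finitePresentation (φ₀ (r₀ i))
    have : Algebra.FinitePresentation A L' := Algebra.FinitePresentation.trans A B L'
    obtain ⟨T', hT'⟩ := Algebra.FinitePresentation.ker_fG_of_surjective Φ hΦ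
    have key : ∀ z : T', ∃ x : P₀, φ₀ x = 0 ∧ ∃ n : ℕ, z.1 * algebraMap P₀ L (r₀ i ^ n) = algebraMap P₀ L x := by
      intro z
      obtain ⟨⟨a, ⟨_, n, rfl⟩⟩, ha⟩ := IsLocalization.surj (Submonoid.powers (r₀ i)) z.1
      have h0 : algebraMap B L' (φ₀ a) = 0 := by
        rw [← hΦa, ← ha, map_mul, show Φ z.1 = 0 from RingHom.mem_ker.1 (hT'.le (Ideal.subset_span z.2)), zero_mul]
      obtain ⟨⟨_, m, rfl⟩, hm⟩ := (IsLocalization.map_eq_zero_iff (Submonoid.powers (φ₀ (r₀ i))) L' _).1 h0
      refine ⟨r₀ i ^ m * a, by rw [map_mul, map_pow]; exact hm, m + n, ?_⟩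
      simp only [map_mul, pow_add, map_pow] at ha ⊢
      rw [← ha]; ring
    choose x hx0 n hxn using key
    refine ⟨Finset.univ.image x, fun t ht => by
      obtain ⟨z, -, rfl⟩ := Finset.mem_image.1 ht; exact hx0 z, fun a ha => ?_⟩
    have haker : algebraMap P₀ L a ∈ RingHom.ker Φ := by rw [RingHom.mem_ker, hΦa, ha, map_zero]
    have hle : RingHom.ker Φ ≤ (Ideal.span ((Finset.univ.image x : Finset P₀) : Set P₀)).map (algebraMap P₀ L) := by
      change RingHom.ker Φ.toRingHom ≤ _
      rw [← hT']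
      refine Ideal.span_le.2 fun z hz => ?_
      have hu : IsUnit (algebraMap P₀ L (r₀ i ^ n ⟨z, hz⟩)) :=
        IsLocalization.map_units L (⟨_, n ⟨z, hz⟩, rfl⟩ : Submonoid.powers (r₀ i))
      rw [SetLike.mem_coe, ← Ideal.mul_unit_mem_iff_mem _ hu, hxn ⟨z, hz⟩]
      exact Ideal.mem_map_of_mem _ (Ideal.subset_span (Finset.mem_image_of_mem _ (Finset.mem_univ _)))
    have := hle haker
    rw [IsLocalization.algebraMap_mem_map_algebraMap_iff (Submonoid.powers (r₀ i))] at this
    obtain ⟨_, ⟨m, rfl⟩, hm⟩ := this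
    exact ⟨m, hm⟩
  choose T hT0 hT using hker
  let J : Ideal P₀ := Ideal.span ((Finset.univ.biUnion T : Finset P₀) : Set P₀)
  let φ : P₀ ⧸ J →ₐ[A] B := Ideal.Quotient.liftₐ J φ₀ fun z hz => by
    suffices J ≤ RingHom.ker φ₀ from this hz
    refine Ideal.span_le.2 fun t ht => ?_
    obtain ⟨i, -, hi⟩ := Finset.mem_biUnion.1 ht
    exact hT0 i t hi
  have : Algebra.FinitePresentation A (P₀ ⧸ J) := Algebra.FinitePresentation.quotient ⟨_, rfl⟩
  refine ⟨P₀ ⧸ J, inferInstance, inferInstance, φ, _, fun i => Ideal.Quotient.mk J (r₀ i), inferInstance,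
    Module.FinitePresentation.of_finite_of_finitePresentation A _, ⟨?_, fun i b => ?_, fun i z hz => ?_⟩⟩
  · rw [eq_top_iff]
    intro z _
    have h1 : (1 : B) ∈ Ideal.span (Set.range fun i => φ (Ideal.Quotient.mk J (r₀ i))) := by
      refine Ideal.span_mono (fun x hx => ?_) hspan
      refine ⟨s.equivFin ⟨x, hx⟩, ?_⟩
      change φ₀ (r₀ _) = x
      rw [hr₀]
      simp [e]
    simpa using Ideal.mul_mem_left _ z h1
  · obtain ⟨m, a, ha⟩ := hsurj₀ (e i) b
    obtain ⟨c, hc⟩ := hS'le _ a.1 a.2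
    refine ⟨m, Ideal.Quotient.mk J c, ?_⟩
    change φ₀ c = φ₀ (r₀ i) ^ m * b
    rw [hr₀]
    exact (show φ₀ c = a.1 from hc).trans ha
  · obtain ⟨a, rfl⟩ := Ideal.Quotient.mk_surjective z
    obtain ⟨m, hm⟩ := hT i a hz
    refine ⟨m, ?_⟩
    rw [← map_pow, ← map_mul, Ideal.Quotient.eq_zero_iff_mem]
    exact Ideal.span_mono (Finset.coe_subset.2 (Finset.subset_biUnion_of_mem T (Finset.mem_univ i))) hm

end Exists

end Groth.Agent.UnivFinite
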