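import Groth.Agent.UnivFinite.Algebra
import Mathlib.RingTheory.MvPolynomial.Basic

/-!
# Versal finite open pieces
-/

set_option autoImplicit false
set_option backward.isDefEq.respectTransparency false

universe u

open scoped TensorProduct

namespace Groth.Agent.UnivFinite

variable {A : Type u} [CommRing A]

section Killing

variable (P : Type u) [AddCommGroup P] [Module A P]

theorem piScalarRight_rTensor {A₁ A₂ : Type u} [CommRing A₁] [CommRing A₂] [Algebra A A₁] [Algebra A A₂]
    (g : A₁ →ₐ[A] A₂) {n : ℕ} (t : A₁ ⊗[A] (Fin n → A)) (i : Fin n) :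
    TensorProduct.piScalarRight A A A₂ (Fin n) (g.toLinearMap.rTensor _ t) i =
      g (TensorProduct.piScalarRight A A A₁ (Fin n) t i) := by
  induction t with
  | zero => simp
  | tmul a v => simp [Algebra.smul_def]
  | add x y hx hy => simp only [map_add, Pi.add_apply, hx, hy]

/-- The versal algebra killing an element of a base change of a finitely presented module. -/
theorem exists_killing [Module.FinitePresentation A P] (A₁ : Type u) [CommRing A₁] [Algebra A A₁]
    [Algebra.FinitePresentation A A₁] (z : A₁ ⊗[A] P) :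
    ∃ (A₂ : Type u) (_ : CommRing A₂) (_ : Algebra A A₂) (ι : A₁ →ₐ[A] A₂),
      Algebra.FinitePresentation A A₂ ∧ ι.toLinearMap.rTensor P z = 0 ∧
      ∀ (A' : Type u) [CommRing A'] [Algebra A A'] (g : A₁ →ₐ[A] A'), g.toLinearMap.rTensor P z = 0 →
        ∃ h : A₂ →ₐ[A] A', h.comp ι = g := by
  classical
  obtain ⟨n, π, hπ⟩ := Module.Finite.exists_fin' A P
  obtain ⟨l, ρ, hρ⟩ := Submodule.fg_iff_exists_fin_generating_family.1 (Module.FinitePresentation.fg_ker π hπ)
  let κ : (Fin l → A) →ₗ[A] (Fin n → A) := Fintype.linearCombination A ρ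
  have hex : Function.Exact κ π := by
    rw [LinearMap.exact_iff, Fintype.range_linearCombination, hρ]
  obtain ⟨ζ, rfl⟩ := LinearMap.lTensor_surjective A₁ hπ z
  let M := MvPolynomial (Fin l) A₁
  let c := TensorProduct.piScalarRight A A A₁ (Fin n) ζ
  let rel : Fin n → M := fun i => MvPolynomial.C (c i) - ∑ j, ρ j i • MvPolynomial.X j
  let I : Ideal M := Ideal.span (Finset.univ.image rel : Finset M)
  let ι : A₁ →ₐ[A] M ⧸ I := IsScalarTower.toAlgHom A A₁ (M ⧸ I)
  have : Algebra.FinitePresentation A₁ (M ⧸ I) := Algebra.FinitePresentation.quotient ⟨_, rfl⟩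
  have hfp : Algebra.FinitePresentation A (M ⧸ I) := Algebra.FinitePresentation.trans A A₁ (M ⧸ I)
  refine ⟨M ⧸ I, inferInstance, inferInstance, ι, hfp, ?_, ?_⟩
  · let w : (M ⧸ I) ⊗[A] (Fin l → A) := ∑ j, Ideal.Quotient.mk I (MvPolynomial.X j) ⊗ₜ Pi.single j 1
    have hw : ι.toLinearMap.rTensor _ ζ = κ.lTensor (M ⧸ I) w := by
      apply (TensorProduct.piScalarRight A A (M ⧸ I) (Fin n)).injective
      funext i
      rw [piScalarRight_rTensor]
      have h0 : Ideal.Quotient.mk I (rel i) = 0 := Ideal.Quotient.eq_zero_iff_mem.2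
        (Ideal.subset_span (Finset.mem_image_of_mem _ (Finset.mem_univ i)))
      simp only [rel, map_sub, map_sum, sub_eq_zero] at h0
      simp only [w, map_sum, LinearMap.lTensor_tmul, TensorProduct.piScalarRight_apply,
        TensorProduct.piScalarRightHom_tmul, Finset.sum_apply]
      refine Eq.trans ?_ (h0.trans (Finset.sum_congr rfl fun j _ => ?_))
      · rfl
      · rw [show κ (Pi.single j 1) = ρ j by simp [κ, Fintype.linearCombination_apply, Pi.single_apply]]
        rfl
    rw [← LinearMap.comp_apply, LinearMap.rTensor_comp_lTensor, ← LinearMap.lTensor_comp_rTensor,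
      LinearMap.comp_apply, hw, ← LinearMap.lTensor_comp_apply, hex.linearMap_comp_eq_zero, LinearMap.lTensor_zero,
      LinearMap.zero_apply]
  · intro A' _ _ g hg
    rw [← LinearMap.comp_apply, LinearMap.rTensor_comp_lTensor, ← LinearMap.lTensor_comp_rTensor,
      LinearMap.comp_apply] at hg
    obtain ⟨w, hw⟩ := ((lTensor_exact A' hex hπ) _).1 hg
    let wc := TensorProduct.piScalarRight A A A' (Fin l) w
    let h₁ : M →+* A' := MvPolynomial.eval₂Hom g.toRingHom wc
    have hκ : ∀ (w : A' ⊗[A] (Fin l → A)) (i : Fin n), TensorProduct.piScalarRight A A A' (Fin n) (κ.lTensor A' w) i =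
        ∑ j, ρ j i • TensorProduct.piScalarRight A A A' (Fin l) w j := by
      intro w i
      induction w with
      | zero => simp
      | tmul a v => simp [κ, Fintype.linearCombination_apply, Finset.sum_apply, Finset.sum_smul, mul_smul, mul_comm (v _)]
      | add x y hx hy => simp only [map_add, Pi.add_apply, hx, hy, smul_add, Finset.sum_add_distrib]
    have hI : ∀ x ∈ I, h₁ x = 0 := by
      intro x hx
      refine (Ideal.span_le.2 ?_ : I ≤ RingHom.ker h₁) hx
      rw [Finset.coe_image]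
      rintro _ ⟨i, -, rfl⟩
      have := hκ w i
      rw [hw, piScalarRight_rTensor] at this
      rw [SetLike.mem_coe, RingHom.mem_ker, map_sub, map_sum, MvPolynomial.eval₂Hom_C, sub_eq_zero]
      refine this.trans (Finset.sum_congr rfl fun j _ => ?_)
      rw [Algebra.smul_def, Algebra.smul_def, map_mul, MvPolynomial.eval₂Hom_X',
        IsScalarTower.algebraMap_apply A A₁ M]
      congr 1
      rw [MvPolynomial.algebraMap_eq, MvPolynomial.eval₂Hom_C]
      exact (g.commutes _).symm
    let h : M ⧸ I →ₐ[A] A' :=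
      { Ideal.Quotient.lift I h₁ hI with
        commutes' := fun a => by
          change h₁ (algebraMap A M a) = _
          rw [IsScalarTower.algebraMap_apply A A₁ M, MvPolynomial.algebraMap_eq, MvPolynomial.eval₂Hom_C]
          exact g.commutes a }
    exact ⟨h, AlgHom.ext fun a => MvPolynomial.eval₂Hom_C g.toRingHom wc a⟩

end Killing

section Versal

variable {P B : Type u} [CommRing P] [CommRing B] [Algebra A P] [Algebra A B]

theorem rTensor_eq_map {A₁ A₂ : Type u} [CommRing A₁] [CommRing A₂] [Algebra A A₁] [Algebra A A₂]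
    (g : A₁ →ₐ[A] A₂) (x : A₁ ⊗[A] P) :
    g.toLinearMap.rTensor P x = Algebra.TensorProduct.map g (AlgHom.id A P) x := by
  induction x with
  | zero => simp
  | tmul a p => simp
  | add x y hx hy => simp [map_add, hx, hy]

/-- A versal idempotent in the ideal of `r`. -/
theorem exists_versal_idempotent [Module.FinitePresentation A P] {k : ℕ} (r : Fin k → P) :
    ∃ (Au : Type u) (_ : CommRing Au) (_ : Algebra A Au) (ε : Au ⊗[A] P),
      Algebra.FinitePresentation A Au ∧ IsIdempotentElem ε ∧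
      ε ∈ Ideal.span (Set.range fun i => (1 : Au) ⊗ₜ[A] r i) ∧
      ∀ (A' : Type u) [CommRing A'] [Algebra A A'] (ε' : A' ⊗[A] P), IsIdempotentElem ε' →
        ε' ∈ Ideal.span (Set.range fun i => (1 : A') ⊗ₜ[A] r i) →
        ∃ g : Au →ₐ[A] A', Algebra.TensorProduct.map g (AlgHom.id A P) ε = ε' := by
  classical
  obtain ⟨n, π, hπ⟩ := Module.Finite.exists_fin' A P
  let p : Fin n → P := fun i => π (Pi.single i 1)
  let A₁ := MvPolynomial (Fin n ⊕ Fin k × Fin n) A
  let ε₀ : A₁ ⊗[A] P := ∑ i, MvPolynomial.X (Sum.inl i) ⊗ₜ p i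
  let t₀ : Fin k → A₁ ⊗[A] P := fun j => ∑ i, MvPolynomial.X (Sum.inr (j, i)) ⊗ₜ p i
  obtain ⟨A₂, _, _, ι₁, _, hι₁, huniv₁⟩ := exists_killing P A₁ (ε₀ * ε₀ - ε₀)
  obtain ⟨A₃, _, _, ι₂, hfp, hι₂, huniv₂⟩ := exists_killing P A₂
    (Algebra.TensorProduct.map ι₁ (AlgHom.id A P) (ε₀ - ∑ j, (1 ⊗ₜ r j) * t₀ j))
  rw [rTensor_eq_map] at hι₁ hι₂
  let m₁ := Algebra.TensorProduct.map ι₁ (AlgHom.id A P)
  let m₂ := Algebra.TensorProduct.map ι₂ (AlgHom.id A P)
  refine ⟨A₃, inferInstance, inferInstance, m₂ (m₁ ε₀), hfp, ?_, ?_, ?_⟩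
  · have := congrArg m₂ hι₁
    rw [map_sub, map_mul, map_sub, map_mul, map_zero, sub_eq_zero] at this
    exact this
  · have : m₂ (m₁ ε₀) = ∑ j, ((1 : A₃) ⊗ₜ r j) * m₂ (m₁ (t₀ j)) := by
      have h0 : m₂ (m₁ (ε₀ - ∑ j : Fin k, ((1 : A₁) ⊗ₜ[A] r j) * t₀ j)) = 0 := hι₂
      rw [map_sub, map_sub, sub_eq_zero] at h0
      rw [h0]
      simp only [map_sum, map_mul]
      refine Finset.sum_congr rfl fun j _ => ?_
      simp [m₁, m₂]
    rw [this]
    exact Ideal.sum_mem _ fun j _ => Ideal.mul_mem_right _ _ (Ideal.subset_span ⟨j, rfl⟩)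
  · intro A' _ _ ε' hε' hmem
    obtain ⟨t', ht'⟩ := Ideal.mem_span_range_iff_exists_fun.1 hmem
    have hcoord : ∀ x : A' ⊗[A] P, ∃ a : Fin n → A', x = ∑ i, a i ⊗ₜ p i := fun x => by
      obtain ⟨y, rfl⟩ := LinearMap.lTensor_surjective A' hπ x
      induction y with
      | zero => exact ⟨0, by simp⟩
      | tmul a v =>
        refine ⟨fun i => v i • a, ?_⟩
        rw [LinearMap.lTensor_tmul]
        conv_lhs => rw [show v = ∑ i, v i • Pi.single i (1 : A) by ext j; simp [Finset.sum_apply, Pi.single_apply]]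
        simp [map_sum, TensorProduct.tmul_sum, TensorProduct.smul_tmul, p]
      | add x y hx hy =>
        obtain ⟨a, ha⟩ := hx
        obtain ⟨b, hb⟩ := hy
        exact ⟨a + b, by simp [map_add, ha, hb, TensorProduct.add_tmul, Finset.sum_add_distrib]⟩
    choose a ha using hcoord
    let g₁ : A₁ →ₐ[A] A' := MvPolynomial.aeval fun s => Sum.elim (fun i => a ε' i) (fun q => a (t' q.1) q.2) s
    have hg₁ : Algebra.TensorProduct.map g₁ (AlgHom.id A P) ε₀ = ε' := by
      conv_rhs => rw [ha ε']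
      simp only [ε₀, g₁, map_sum]
      refine Finset.sum_congr rfl fun i _ => ?_
      rw [Algebra.TensorProduct.map_tmul, MvPolynomial.aeval_X]
      rfl
    have hg₁t : ∀ j, Algebra.TensorProduct.map g₁ (AlgHom.id A P) (t₀ j) = t' j := fun j => by
      conv_rhs => rw [ha (t' j)]
      simp only [t₀, g₁, map_sum]
      refine Finset.sum_congr rfl fun i _ => ?_
      rw [Algebra.TensorProduct.map_tmul, MvPolynomial.aeval_X]
      rfl
    obtain ⟨g₂, hg₂⟩ := huniv₁ A' g₁ (by rw [rTensor_eq_map, map_sub, map_mul, hg₁, hε'.eq, sub_self])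
    have hcomp : ∀ x, Algebra.TensorProduct.map g₂ (AlgHom.id A P) (m₁ x) =
        Algebra.TensorProduct.map g₁ (AlgHom.id A P) x := fun x => by
      rw [← AlgHom.comp_apply, ← Algebra.TensorProduct.map_comp, hg₂, AlgHom.comp_id]
    obtain ⟨g₃, hg₃⟩ := huniv₂ A' g₂ (by
      rw [rTensor_eq_map, hcomp, map_sub, hg₁, map_sum, sub_eq_zero, ← ht']
      refine Finset.sum_congr rfl fun j _ => ?_
      rw [map_mul, hg₁t, Algebra.TensorProduct.map_tmul, map_one, AlgHom.id_apply, mul_comm])
    refine ⟨g₃, ?_⟩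
    rw [← AlgHom.comp_apply, ← Algebra.TensorProduct.map_comp, hg₃, AlgHom.comp_id, hcomp, hg₁]

end Versal

/-- A versal finite open piece of a quasi-finite algebra. -/
theorem exists_versal_finite (A B : Type u) [CommRing A] [CommRing B] [Algebra A B]
    [Algebra.FinitePresentation A B] [Algebra.QuasiFinite A B] :
    ∃ (Au : Type u) (_ : CommRing Au) (_ : Algebra A Au) (e : Au ⊗[A] B),
      Algebra.FinitePresentation A Au ∧ IsIdempotentElem e ∧ Module.Finite Au (Localization.Away e) ∧
      ∀ (A' : Type u) [CommRing A'] [Algebra A A'] (e' : A' ⊗[A] B), IsIdempotentElem e' →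
        Module.Finite A' (Localization.Away e') →
        ∃ g : Au →ₐ[A] A', Algebra.TensorProduct.map g (AlgHom.id A B) e = e' := by
  obtain ⟨P, _, _, φ, k, r, hfin, hfp, hM⟩ := exists_model A B
  obtain ⟨Au, _, _, ε, hAu, hε, hεr, huniv⟩ := exists_versal_idempotent (A := A) r
  let φu := Algebra.TensorProduct.map (AlgHom.id Au Au) φ
  refine ⟨Au, inferInstance, inferInstance, φu ε, hAu, hε.map φu, (hM.baseChange Au).finite_away hε hεr, ?_⟩
  intro A' _ _ e' he' hfin'
  obtain ⟨ε', hε', hε'r, hφ⟩ := (hM.baseChange A').exists_idempotent he' hfin'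
  obtain ⟨g, hg⟩ := huniv A' ε' hε' hε'r
  refine ⟨g, ?_⟩
  rw [← hφ, ← hg]
  clear hg hεr hε huniv
  induction ε with
  | zero => simp
  | tmul a p => simp [φu]
  | add x y hx hy => rw [map_add, map_add, map_add, map_add, hx, hy]

end Groth.Agent.UnivFinite
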